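import Groth.Agent.H51.ResTrdeg
import Mathlib.AlgebraicGeometry.Morphisms.FormallyUnramified
import Mathlib.AlgebraicGeometry.Morphisms.Etale
import Mathlib.RingTheory.Unramified.LocalStructure

set_option autoImplicit false
set_option linter.style.haveILetI false
universe u
open CategoryTheory CategoryTheory.Limits AlgebraicGeometry

namespace Groth.Agent.H70.EtLoc

/-- Unramified morphisms of schemes are locally quasi-finite. -/
theorem locallyQuasiFinite_of_formallyUnramified {X Y : Scheme.{u}} (f : X ⟶ Y)
    [LocallyOfFiniteType f] [FormallyUnramified f] : LocallyQuasiFinite f := by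
  rw [HasRingHomProperty.iff_appLE (P := @LocallyQuasiFinite)]
  intro U V e
  have h1 : (f.appLE U V e).hom.FiniteType := f.finiteType_appLE U.2 V.2 e
  have h2 : (f.appLE U V e).hom.FormallyUnramified :=
    HasRingHomProperty.appLE (P := @FormallyUnramified) f inferInstance U V e
  algebraize [(f.appLE U V e).hom]
  change Algebra.QuasiFinite _ _
  infer_instance

theorem resTrdeg_eq_zero_of_etale {X Y : Scheme.{u}} (g : X ⟶ Y) [Etale g] (x : X) :
    Dual3.resTrdeg g x = 0 := by
  haveI : LocallyQuasiFinite g := locallyQuasiFinite_of_formallyUnramified g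
  exact Groth.Agent.H51.resTrdeg_eq_zero_of_lqf g x

theorem resTrdeg_etale_square {U U' V V' : Scheme.{u}} (h : U ⟶ V) (h' : U' ⟶ V') (a : U' ⟶ U)
    (b : V' ⟶ V) [Etale a] [Etale b] (comm : h' ≫ b = a ≫ h) (u' : U') :
    Dual3.resTrdeg h (a u') = Dual3.resTrdeg h' u' := by
  have h1 := Groth.Agent.H51.resTrdeg_comp h' b u'
  have h2 := Groth.Agent.H51.resTrdeg_comp a h u'
  rw [resTrdeg_eq_zero_of_etale b, zero_add] at h1
  rw [resTrdeg_eq_zero_of_etale a, add_zero] at h2
  rw [← h1, ← h2, comm]

end Groth.Agent.H70.EtLoc
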